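import Cfsg.Agent.Lib.ClassicalOrder.Core
import Cfsg.Agent.Lib.OrthStd.Models
import Cfsg.Agent.Lib.Forms.Det
import Cfsg.Prelude.Def_Classical

/-!
# Element orders in the projective classical groups with a bilinear form
-/

set_option autoImplicit false

namespace Cfsg.Agent.Lib.ClassicalOrder

open Cfsg.Agent.Lib.Forms Cfsg.Agent.Lib.OrthStd QuadraticMap
open scoped Matrix

variable {F : Type*} [Field F] [Fintype F]

/-- Orders in the quotient by the centre of a matrix group, from scalar powers. -/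
theorem orderOf_quotient_le {ι : Type*} [Fintype ι] [DecidableEq ι] {H : Type*} [Group H]
    (f : H →* Matrix ι ι F) (hf : Function.Injective f) (m : ℕ)
    (hpow : ∀ h : H, ∃ (N : ℕ) (c : F), 0 < N ∧
      (Fintype.card F - 1) * N ≤ Fintype.card F ^ (m + 1) ∧ f h ^ N = c • (1 : Matrix ι ι F))
    (g : H ⧸ Subgroup.center H) :
    (Fintype.card F - 1) * orderOf g ≤ Fintype.card F ^ (m + 1) := by
  obtain ⟨h, rfl⟩ := QuotientGroup.mk_surjective g
  obtain ⟨N, c, hN, hle, hc⟩ := hpow h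
  refine le_trans (Nat.mul_le_mul_left _ ?_) hle
  refine orderOf_le_of_pow_eq_one hN ?_
  rw [← QuotientGroup.mk_pow, QuotientGroup.eq_one_iff, Subgroup.mem_center_iff]
  intro k
  apply hf
  rw [map_mul, map_mul, map_pow, hc]
  simp

/-- The matrices of an isometry group, on the subgroup of commutators. -/
theorem exists_scalar_pow_omega {ι : Type} [Fintype ι] [DecidableEq ι] {Qf : (ι → F) → F}
    (Q : QuadraticForm F (ι → F)) (hQf : ∀ v, Qf v = Q v) (hQ : Nondeg Q) (m : ℕ)
    (hdim : (Fintype.card ι = 2 * m ∧ 2 ≤ m) ∨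
      (Fintype.card ι = 2 * m + 1 ∧ 3 ≤ m ∧ Odd (Fintype.card F)))
    (g : Cfsg.POmega F Qf) :
    (Fintype.card F - 1) * orderOf g ≤ Fintype.card F ^ (m + 1) := by
  let f : Cfsg.Omega F Qf →* Matrix ι ι F :=
    ((Units.coeHom (Matrix ι ι F)).comp (Cfsg.isometryGroup F Qf).subtype).comp
      (Cfsg.Omega F Qf).subtype
  have hf : Function.Injective f :=
    (Units.val_injective.comp Subtype.val_injective).comp Subtype.val_injective
  refine orderOf_quotient_le f hf m (fun h => ?_) g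
  have hiso : ∀ v, Q (f h *ᵥ v) = Q v := fun v => by
    rw [← hQf, ← hQf]
    exact h.1.2 v v
  refine exists_scalar_pow_of_form (f h) (gram Q)
    ((Matrix.isUnit_iff_isUnit_det _).mpr (isUnit_iff_ne_zero.mpr (gram_det_ne_zero hQ))) ?_ m hdim
  ext i j
  have := polar_map (Matrix.mulVecLin (f h)) hiso (Pi.single i 1) (Pi.single j 1)
  rw [polar_eq_gram, polar_eq_gram, Matrix.mulVecLin_apply, Matrix.mulVecLin_apply,
    Matrix.dotProduct_mulVec, Matrix.dotProduct_mulVec, ← Matrix.vecMul_transpose,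
    Matrix.vecMul_vecMul, Matrix.dotProduct_mulVec, Matrix.vecMul_vecMul,
    ← Matrix.dotProduct_mulVec, ← Matrix.dotProduct_mulVec] at this
  simpa [Matrix.mul_assoc] using this

theorem qMinusC_nondeg (m : ℕ) {a b : F}
    (h : ∀ z₁ z₂ : F, z₁ ^ 2 + a * z₁ * z₂ + b * z₂ ^ 2 = 0 → z₁ = 0 ∧ z₂ = 0) :
    Nondeg (qMinusC m a b) :=
  (prod_nondeg (qPlus_nondeg m) (qBin_nondeg h)).of_equiv (minusIso m a b).symm

theorem qOddC_nondeg (m : ℕ) (h : Odd (Fintype.card F)) : Nondeg (qOddC m F) := by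
  have h2 : (2 : F) ≠ 0 := fun h2 => by
    have hc := FiniteField.even_card_of_char_two (F := F)
      (CharP.ringChar_of_prime_eq_zero Nat.prime_two (by exact_mod_cast h2))
    rcases h with ⟨i, hi⟩
    omega
  exact (prod_nondeg (qPlus_nondeg m) (qOne_nondeg one_ne_zero h2)).of_equiv (oddIso m F).symm

end Cfsg.Agent.Lib.ClassicalOrder
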