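import Mathlib

/-!
# The least common multiple of the numbers `q ^ d + 1`

For a finite set `A` of positive integers and `2 ≤ q`, `(q - 1) * lcm {q ^ d + 1 : d ∈ A}` is at most
`q ^ (∑ A + 1)`.  (The product of the numbers can exceed this bound.)
-/

set_option autoImplicit false

namespace Cfsg.Agent.Lib.ClassicalOrder

open Finset

/-- Bound on the product of `q ^ o + 1` over odd `o ≥ 3`. -/
theorem prod_odd_bound {q : ℕ} (hq : 2 ≤ q) (O : Finset ℕ) :
    ∀ K : ℕ, 1 ≤ K → (∀ o ∈ O, Odd o ∧ 3 ≤ o ∧ o ≤ K) →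
      (∏ o ∈ O, (q ^ o + 1)) * q ^ (K + 1) + q * q ^ (∑ o ∈ O, o) ≤
        (q + 1) * q ^ K * q ^ (∑ o ∈ O, o) := by
  induction O using Finset.induction_on_max with
  | empty =>
    intro K hK _
    simp only [prod_empty, sum_empty, pow_zero, mul_one, one_mul]
    have : q ≤ q ^ K := by
      calc q = q ^ 1 := (pow_one q).symm
        _ ≤ q ^ K := Nat.pow_le_pow_right (by omega) hK
    rw [pow_succ]; nlinarith
  | insert a s hlt ih =>
    intro K hK hO
    have ha := hO a (mem_insert_self a s)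
    have hnot : a ∉ s := fun h => lt_irrefl a (hlt a h)
    have ih' := ih (a - 2) (by omega) (fun o ho => by
      have h1 := hO o (mem_insert_of_mem ho)
      have h2 := hlt o ho
      refine ⟨h1.1, h1.2.1, ?_⟩
      obtain ⟨⟨i, hi⟩, -, -⟩ := h1
      obtain ⟨⟨j, hj⟩, -, -⟩ := ha
      omega)
    rw [prod_insert hnot, sum_insert hnot, pow_add q a]
    generalize hP : (∏ o ∈ s, (q ^ o + 1)) = P at ih' ⊢
    generalize hS : q ^ (∑ o ∈ s, o) = S at ih' ⊢
    -- first the case `K = a`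
    have key : (q ^ a + 1) * P * q + q * S ≤ (q + 1) * q ^ a * S := by
      have hu : q ^ a = q ^ (a - 2) * q * q := by
        rw [← pow_succ, ← pow_succ]; congr 1; omega
      have hu1 : q ^ (a - 2 + 1) = q ^ (a - 2) * q := pow_succ _ _
      rw [hu1] at ih'
      rw [hu]
      have hpos : 0 < q ^ (a - 2) := by positivity
      generalize q ^ (a - 2) = u at ih' hpos ⊢
      refine Nat.le_of_mul_le_mul_left ?_ hpos
      have h1 := Nat.mul_le_mul_left (u * q * q + 1) ih'
      have h2 : (2 * q + 1) * (u * S) ≤ q * q * q * (u * S) + q * S := by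
        have : 2 * q + 1 ≤ q * q * q := by nlinarith
        exact le_add_right (Nat.mul_le_mul_right _ this)
      nlinarith [h1, h2]
    -- then a larger `K`
    obtain ⟨t, rfl⟩ : ∃ t, K = a + t := ⟨K - a, by omega⟩
    have hone : 1 ≤ q ^ t := Nat.one_le_pow _ _ (by omega)
    have h3 : q * (q ^ a * S) ≤ q ^ t * (q * (q ^ a * S)) := Nat.le_mul_of_pos_left _ hone
    have h4 := Nat.mul_le_mul_left (q ^ a * q ^ t) key
    calc (q ^ a + 1) * P * q ^ (a + t + 1) + q * (q ^ a * S)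
        ≤ (q ^ a + 1) * P * q ^ (a + t + 1) + q ^ t * (q * (q ^ a * S)) := Nat.add_le_add_left h3 _
      _ = q ^ a * q ^ t * ((q ^ a + 1) * P * q + q * S) := by rw [pow_succ, pow_add]; ring
      _ ≤ q ^ a * q ^ t * ((q + 1) * q ^ a * S) := h4
      _ = (q + 1) * q ^ (a + t) * (q ^ a * S) := by rw [pow_add]; ring

/-- `q + 1` divides `q ^ o + 1` for odd `o`. -/
theorem succ_dvd_pow_succ {q o : ℕ} (ho : Odd o) : q + 1 ∣ q ^ o + 1 := by
  have := ho.nat_add_dvd_pow_add_pow q 1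
  simpa using this

/-- The bound on a set of odd numbers. -/
theorem lcm_odd_bound {q : ℕ} (hq : 2 ≤ q) (O : Finset ℕ) (hO : ∀ o ∈ O, Odd o)
    (hne : O.Nonempty) :
    q * O.lcm (fun o => q ^ o + 1) ≤ (q + 1) * q ^ (∑ o ∈ O, o) := by
  have hpos : ∀ o : ℕ, 0 < q ^ o + 1 := fun o => Nat.succ_pos _
  by_cases h : ∀ o ∈ O, o = 1
  · have : O = {1} := Finset.eq_singleton_iff_nonempty_unique_mem.mpr ⟨hne, h⟩
    subst this
    simp [Finset.lcm_singleton, mul_comm]
  push Not at h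
  obtain ⟨b, hb, hb1⟩ := h
  set O' := O.erase 1 with hO'
  have hbO' : b ∈ O' := mem_erase.mpr ⟨hb1, hb⟩
  have hdvd : O.lcm (fun o => q ^ o + 1) ∣ ∏ o ∈ O', (q ^ o + 1) := by
    refine Finset.lcm_dvd fun o ho => ?_
    rcases eq_or_ne o 1 with rfl | hne1
    · rw [pow_one]
      exact (succ_dvd_pow_succ (hO b hb)).trans (dvd_prod_of_mem _ hbO')
    · exact dvd_prod_of_mem (fun o => q ^ o + 1) (mem_erase.mpr ⟨hne1, ho⟩)
  have hle := Nat.le_of_dvd (prod_pos fun o _ => hpos o) hdvd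
  set K := ∑ o ∈ O', o with hK
  have hmem : ∀ o ∈ O', Odd o ∧ 3 ≤ o ∧ o ≤ K := by
    intro o ho
    have h1 := hO o (mem_of_mem_erase ho)
    have h2 := ne_of_mem_erase ho
    refine ⟨h1, ?_, single_le_sum (fun i _ => Nat.zero_le i) ho⟩
    obtain ⟨i, rfl⟩ := h1
    omega
  have hK1 : 1 ≤ K := le_trans (by omega) ((hmem b hbO').2.1.trans (hmem b hbO').2.2)
  have hb' := prod_odd_bound hq O' K hK1 hmem
  rw [← hK] at hb'
  have hsum : K ≤ ∑ o ∈ O, o :=
    sum_le_sum_of_subset (erase_subset _ _)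
  refine le_trans (Nat.mul_le_mul_left q hle) ?_
  refine le_trans ?_ (Nat.mul_le_mul_left (q + 1) (Nat.pow_le_pow_right (by omega) hsum))
  have hqK : 0 < q ^ K := by positivity
  refine Nat.le_of_mul_le_mul_left ?_ hqK
  rw [pow_succ] at hb'
  nlinarith [hb']

/-- The bound for an arbitrary set of positive numbers. -/
theorem lcm_bound (A : Finset ℕ) (hA : ∀ d ∈ A, 1 ≤ d) {q : ℕ} (hq : 2 ≤ q) :
    (q - 1) * A.lcm (fun d => q ^ d + 1) ≤ q ^ (∑ d ∈ A, d + 1) := by
  obtain ⟨s, hs⟩ : ∃ s, ∑ d ∈ A, d = s := ⟨_, rfl⟩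
  induction s using Nat.strong_induction_on generalizing A q with
  | _ s ih =>
    rcases A.eq_empty_or_nonempty with rfl | hne
    · simp
    set O := A.filter (fun d => Odd d) with hOdef
    set E := A.filter (fun d => ¬ Odd d) with hEdef
    set A' := E.image (fun d => d / 2) with hA'
    have hE2 : ∀ d ∈ E, 2 * (d / 2) = d := by
      intro d hd
      have := (mem_filter.mp hd).2
      rw [Nat.not_odd_iff_even] at this
      exact Nat.two_mul_div_two_of_even this
    have hA'1 : ∀ d ∈ A', 1 ≤ d := by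
      intro d hd
      obtain ⟨e, he, rfl⟩ := mem_image.mp hd
      have := hE2 e he
      have := hA e (mem_of_mem_filter e he)
      omega
    have hsumE : 2 * ∑ d ∈ A', d = ∑ d ∈ E, d := by
      rw [hA', sum_image (fun x hx y hy hxy => by
        have hx2 := hE2 x hx
        have hy2 := hE2 y hy
        have hxy' : x / 2 = y / 2 := hxy
        omega), mul_sum]
      exact sum_congr rfl hE2
    have hsplit : ∑ d ∈ O, d + ∑ d ∈ E, d = ∑ d ∈ A, d := sum_filter_add_sum_filter_not A _ _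
    have hpos : 0 < ∑ d ∈ A, d := by
      obtain ⟨d, hd⟩ := hne
      exact lt_of_lt_of_le (hA d hd) (single_le_sum (fun i _ => Nat.zero_le i) hd)
    have hlt : ∑ d ∈ A', d < s := by omega
    have hq2 : 2 ≤ q * q := by nlinarith
    have hrec := ih _ hlt A' hA'1 hq2 rfl
    have hdvd : A.lcm (fun d => q ^ d + 1) ∣
        O.lcm (fun o => q ^ o + 1) * A'.lcm (fun d => (q * q) ^ d + 1) := by
      refine Finset.lcm_dvd fun d hd => ?_
      by_cases hodd : Odd d
      · exact dvd_mul_of_dvd_left (dvd_lcm (mem_filter.mpr ⟨hd, hodd⟩)) _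
      · refine dvd_mul_of_dvd_right ?_ _
        have hdE : d ∈ E := mem_filter.mpr ⟨hd, hodd⟩
        have : q ^ d + 1 = (q * q) ^ (d / 2) + 1 := by
          rw [← pow_two, ← pow_mul, hE2 d hdE]
        rw [this]
        exact dvd_lcm (f := fun e => (q * q) ^ e + 1) (mem_image_of_mem (fun e => e / 2) hdE)
    have hpos2 : 0 < O.lcm (fun o => q ^ o + 1) * A'.lcm (fun d => (q * q) ^ d + 1) := by
      refine Nat.mul_pos (Nat.pos_of_ne_zero ?_) (Nat.pos_of_ne_zero ?_)
      · simp [Finset.lcm_eq_zero_iff]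
      · simp [Finset.lcm_eq_zero_iff]
    have hle := Nat.le_of_dvd hpos2 hdvd
    have hO1 : q * O.lcm (fun o => q ^ o + 1) ≤ (q + 1) * q ^ (∑ o ∈ O, o) := by
      rcases O.eq_empty_or_nonempty with hO0 | hOne
      · rw [hO0]; simp
      · exact lcm_odd_bound hq O (fun o ho => (mem_filter.mp ho).2) hOne
    have hsq : q * q - 1 = (q - 1) * (q + 1) := by
      obtain ⟨r, rfl⟩ : ∃ r, q = r + 1 := ⟨q - 1, by omega⟩
      have : (r + 1) * (r + 1) = (r + 1 - 1) * (r + 1 + 1) + 1 := by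
        simp only [Nat.add_sub_cancel]; ring
      omega
    rw [hsq] at hrec
    have e1 : q ^ (∑ d ∈ A, d + 1) * q = q ^ (∑ o ∈ O, o) * (q * q) ^ (∑ d ∈ A', d + 1) := by
      rw [← pow_two, ← pow_mul, ← pow_succ, ← pow_add]
      congr 1
      omega
    refine Nat.le_of_mul_le_mul_left ?_ (show 0 < q by omega)
    calc q * ((q - 1) * A.lcm (fun d => q ^ d + 1))
        ≤ q * ((q - 1) * (O.lcm (fun o => q ^ o + 1) * A'.lcm (fun d => (q * q) ^ d + 1))) :=
          Nat.mul_le_mul_left _ (Nat.mul_le_mul_left _ hle)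
      _ = (q - 1) * A'.lcm (fun d => (q * q) ^ d + 1) * (q * O.lcm (fun o => q ^ o + 1)) := by ring
      _ ≤ (q - 1) * A'.lcm (fun d => (q * q) ^ d + 1) * ((q + 1) * q ^ (∑ o ∈ O, o)) :=
          Nat.mul_le_mul_left _ hO1
      _ = (q - 1) * (q + 1) * A'.lcm (fun d => (q * q) ^ d + 1) * q ^ (∑ o ∈ O, o) := by ring
      _ ≤ (q * q) ^ (∑ d ∈ A', d + 1) * q ^ (∑ o ∈ O, o) := Nat.mul_le_mul_right _ hrec
      _ = q * q ^ (∑ d ∈ A, d + 1) := by rw [mul_comm _ (q ^ (∑ o ∈ O, o)), ← e1, mul_comm]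

/-- A clumsy but convenient elementary bound: `n ≤ p ^ k` for small data. -/
theorem le_pow_aux {p : ℕ} (hp : 2 ≤ p) (u : ℕ) : 2 * u ≤ p ^ u ∧ u + 1 ≤ p ^ u := by
  induction u with
  | zero => simp
  | succ u ih =>
    rw [pow_succ]
    constructor <;> nlinarith [ih.1, ih.2]

theorem two_mul_add_one_le_pow {p : ℕ} (hp : 3 ≤ p) (u : ℕ) : 2 * u + 1 ≤ p ^ u := by
  induction u with
  | zero => simp
  | succ u ih =>
    rw [pow_succ]
    nlinarith [ih]

end Cfsg.Agent.Lib.ClassicalOrder
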