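import Mathlib
import Cfsg.Agent.Lib.ClassicalOrder.Lcm

/-!
# Element orders in classical groups with a bilinear form

If `M` is an invertible matrix over a finite field with `q` elements, of size `2 m` (`m ≥ 2`) or
`2 m + 1` (`m ≥ 3`, `q` odd), whose inverse has the same characteristic polynomial, then some power
`M ^ N` with `(q - 1) N ≤ q ^ (m + 1)` is a scalar matrix.

The proof only uses the multiset of roots of the characteristic polynomial in a finite splitting
field: it is stable under `x ↦ x ^ q` and `x ↦ x⁻¹`.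
-/

set_option autoImplicit false

namespace Cfsg.Agent.Lib.ClassicalOrder

open Polynomial Finset Function

theorem iterate_pow_map {K : Type*} [Monoid K] (q j : ℕ) (a : K) :
    (fun x : K => x ^ q)^[j] a = a ^ q ^ j := by
  induction j with
  | zero => simp
  | succ j ih => rw [iterate_succ_apply', ih, ← pow_mul, pow_succ]

/-- A split monic polynomial divides a nonzero polynomial having all its roots with at least the
same multiplicities. -/
theorem splits_dvd {K : Type*} [Field K] {c P : K[X]} (hc : c.Monic)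
    (hcs : c = (c.roots.map fun a => X - Polynomial.C a).prod) (h : c.roots ≤ P.roots) : c ∣ P := by
  rw [hcs]
  exact dvd_trans (Multiset.prod_dvd_prod_of_le (Multiset.map_le_map h))
    (prod_multiset_X_sub_C_dvd P)

variable {F : Type*} [Field F] [Fintype F]

/-- Data about a multiset of nonzero elements of a finite field extension, stable under Frobenius
and inversion. -/
theorem exists_exponents {K : Type*} [Field K] [Finite K] {q : ℕ} (hq : 2 ≤ q)
    (hinj : Injective fun x : K => x ^ q)
    (r : ℕ) (hr : 0 < r) (hper : ∀ a : K, a ^ q ^ r = a)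
    (R : Multiset K) [DecidableEq K] (hR0 : ∀ a ∈ R, a ≠ 0)
    (hφ : ∀ a, R.count (a ^ q) = R.count a) (hinv : ∀ a, R.count a⁻¹ = R.count a) :
    ∃ (A B : Finset ℕ),
      (∀ d ∈ A, 1 ≤ d) ∧ (∀ d ∈ B, 1 ≤ d) ∧
      (∀ a ∈ R, a ≠ 1 → a ≠ -1 →
        (∃ d ∈ A, a ^ (q ^ d + 1) = 1) ∨ (∃ d ∈ B, a ^ (q ^ d - 1) = 1)) ∧
      2 * (∑ d ∈ A, d + ∑ d ∈ B, d) ≤ (R.toFinset.filter fun a => a ≠ 1 ∧ a ≠ -1).card := by
  classical
  set D := R.toFinset.filter (fun a => a ≠ 1 ∧ a ≠ -1) with hD
  set φ : K → K := fun x => x ^ q with hφdef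
  have hφ0 : ∀ j (a : K), φ^[j] a = a ^ q ^ j := fun j a => iterate_pow_map q j a
  have hperiodic : ∀ a : K, a ∈ periodicPts φ := fun a =>
    mk_mem_periodicPts hr (show φ^[r] a = a by rw [hφ0]; exact hper a)
  set period : K → ℕ := fun a => minimalPeriod φ a with hperiod
  have hpos : ∀ a, 0 < period a := fun a => minimalPeriod_pos_of_mem_periodicPts (hperiodic a)
  have hiterinv : ∀ j (a : K), φ^[j] a⁻¹ = (φ^[j] a)⁻¹ := fun j a => by
    rw [hφ0, hφ0, inv_pow]
  -- `a` is of type A if its inverse is in its orbit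
  set isA : K → Prop := fun a => ∃ j, φ^[j] a = a⁻¹ with hisA
  have hmemD : ∀ a, a ∈ D ↔ 0 < R.count a ∧ a ≠ 1 ∧ a ≠ -1 := fun a => by
    simp [hD, Multiset.count_pos]
  have hqone : ∀ e : K, e = 1 ∨ e = -1 → φ e = e := by
    intro e he
    have h1 : φ 1 = 1 := one_pow q
    rcases he with rfl | rfl
    · exact h1
    · have hsq : φ (-1) * φ (-1) = 1 := by
        simp only [hφdef, ← mul_pow, neg_mul_neg, one_mul, one_pow]
      rcases mul_self_eq_one_iff.mp hsq with h | h
      · have := hinj (show (-1 : K) ^ q = 1 ^ q by rw [one_pow]; exact h)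
        rw [this]; exact h1
      · exact h
  have hne_pm : ∀ a, a ≠ 1 ∧ a ≠ -1 → φ a ≠ 1 ∧ φ a ≠ -1 := by
    intro a ha
    exact ⟨fun h => ha.1 (hinj (h.trans (hqone 1 (Or.inl rfl)).symm)),
      fun h => ha.2 (hinj (h.trans (hqone (-1) (Or.inr rfl)).symm))⟩
  have hDφ : ∀ a ∈ D, φ a ∈ D := by
    intro a ha
    rw [hmemD] at ha ⊢
    exact ⟨by rw [hφdef]; simpa [hφ a] using ha.1, hne_pm a ha.2⟩
  have hDiter : ∀ j, ∀ a ∈ D, φ^[j] a ∈ D := by
    intro j
    induction j with
    | zero => simp
    | succ j ih => intro a ha; rw [iterate_succ_apply']; exact hDφ _ (ih a ha)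
  have hDinv : ∀ a ∈ D, a⁻¹ ∈ D := by
    intro a ha
    rw [hmemD] at ha ⊢
    refine ⟨by rw [hinv]; exact ha.1, fun h => ha.2.1 (inv_eq_one.mp h), fun h => ha.2.2 ?_⟩
    rw [← inv_inv a, h, inv_neg, inv_one]
  have hper_iter : ∀ j a, period (φ^[j] a) = period a := fun j a =>
    minimalPeriod_apply_iterate (hperiodic a) j
  have hper_inv : ∀ a, period a⁻¹ = period a := by
    intro a
    refine Nat.dvd_antisymm ?_ ?_
    · refine IsPeriodicPt.minimalPeriod_dvd ?_
      show φ^[period a] a⁻¹ = a⁻¹
      rw [hiterinv, iterate_minimalPeriod]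
    · refine IsPeriodicPt.minimalPeriod_dvd ?_
      show φ^[period a⁻¹] a = a
      have := hiterinv (period a⁻¹) a
      rw [iterate_minimalPeriod] at this
      exact inv_injective this.symm
  have hA_iter : ∀ j a, isA a → isA (φ^[j] a) := by
    rintro j a ⟨i, hi⟩
    exact ⟨i, by rw [← iterate_add_apply, add_comm, iterate_add_apply, hi, hiterinv]⟩
  have hA_inv : ∀ a, isA a → isA a⁻¹ := by
    rintro a ⟨i, hi⟩
    exact ⟨i, by rw [hiterinv, hi]⟩
  have hA_half : ∀ a ∈ D, isA a → ∃ δ, 1 ≤ δ ∧ period a = 2 * δ ∧ φ^[δ] a = a⁻¹ := by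
    rintro a ha ⟨j, hj⟩
    have hd := hpos a
    have hj' : φ^[j % period a] a = a⁻¹ := by rw [iterate_mod_minimalPeriod_eq]; exact hj
    have h2 : φ^[2 * (j % period a)] a = a := by
      rw [two_mul, iterate_add_apply, hj', hiterinv, hj', inv_inv]
    obtain ⟨k, hk⟩ := IsPeriodicPt.minimalPeriod_dvd (f := φ) (x := a) h2
    have hne : j % period a ≠ 0 := by
      intro h0
      rw [h0, iterate_zero_apply] at hj'
      have ha' := (hmemD a).mp ha
      have h1 : a * a = 1 := by
        nth_rewrite 2 [hj']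
        exact mul_inv_cancel₀ (hR0 a (Multiset.count_pos.mp ha'.1))
      rcases mul_self_eq_one_iff.mp h1 with h | h
      · exact ha'.2.1 h
      · exact ha'.2.2 h
    have hlt : j % period a < period a := Nat.mod_lt _ hd
    change 2 * (j % period a) = period a * k at hk
    have hk1 : k = 1 := by
      rcases k with _ | _ | k
      · omega
      · rfl
      · have : period a * 2 ≤ period a * (k + 1 + 1) := Nat.mul_le_mul_left _ (by omega)
        omega
    subst hk1
    exact ⟨j % period a, by omega, by omega, hj'⟩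
  set DA := D.filter (fun a => isA a) with hDA
  set DB := D.filter (fun a => ¬ isA a) with hDB
  refine ⟨DA.image (fun a => period a / 2), DB.image period, ?_, ?_, ?_, ?_⟩
  · intro d hd
    obtain ⟨a, ha, rfl⟩ := mem_image.mp hd
    obtain ⟨δ, h1, h2, -⟩ := hA_half a (mem_of_mem_filter a ha) (mem_filter.mp ha).2
    omega
  · intro d hd
    obtain ⟨a, -, rfl⟩ := mem_image.mp hd
    exact hpos a
  · intro a haR h1 h2
    have haD : a ∈ D := (hmemD a).mpr ⟨Multiset.count_pos.mpr haR, h1, h2⟩
    by_cases h : isA a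
    · refine Or.inl ⟨period a / 2, mem_image_of_mem _ (mem_filter.mpr ⟨haD, h⟩), ?_⟩
      obtain ⟨δ, -, h2, h3⟩ := hA_half a haD h
      rw [h2, Nat.mul_div_cancel_left δ (by norm_num), pow_succ, ← hφ0, h3,
        inv_mul_cancel₀ (hR0 a haR)]
    · refine Or.inr ⟨period a, mem_image_of_mem _ (mem_filter.mpr ⟨haD, h⟩), ?_⟩
      have hper' : a ^ q ^ period a = a := by rw [← hφ0]; exact iterate_minimalPeriod
      have hqd : q ^ period a = (q ^ period a - 1) + 1 :=
        (Nat.succ_pred_eq_of_pos (pow_pos (by omega) _)).symm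
      rw [hqd, pow_succ] at hper'
      exact (mul_eq_right₀ (hR0 a haR)).mp hper'
  · have hsum : D.card = DA.card + DB.card := (card_filter_add_card_filter_not _).symm
    rw [hsum, mul_add]
    have orbit_card : ∀ a, ((Finset.range (period a)).image fun i => φ^[i] a).card = period a := by
      intro a
      rw [card_image_of_injOn, Finset.card_range]
      intro i hi i' hi' h
      exact iterate_injOn_Iio_minimalPeriod (by simpa using hi) (by simpa using hi') h
    refine Nat.add_le_add ?_ ?_
    · rw [card_eq_sum_card_image (fun a => period a / 2) DA, mul_sum]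
      refine sum_le_sum fun d hd => ?_
      obtain ⟨a, ha, rfl⟩ := mem_image.mp hd
      obtain ⟨δ, -, h2, -⟩ := hA_half a (mem_of_mem_filter a ha) (mem_filter.mp ha).2
      have h3 : 2 * (period a / 2) = period a := by omega
      rw [h3]
      refine (orbit_card a).symm.le.trans (card_le_card fun b hb => ?_)
      obtain ⟨i, -, rfl⟩ := mem_image.mp hb
      refine mem_filter.mpr ⟨mem_filter.mpr ⟨hDiter i a (mem_of_mem_filter a ha),
        hA_iter i a (mem_filter.mp ha).2⟩, ?_⟩
      rw [hper_iter]
    · rw [card_eq_sum_card_image period DB, mul_sum]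
      refine sum_le_sum fun d hd => ?_
      obtain ⟨a, ha, rfl⟩ := mem_image.mp hd
      obtain ⟨haD, hanA⟩ := mem_filter.mp ha
      have hnotA : ∀ j, ¬ isA (φ^[j] a) := by
        intro j hj
        apply hanA
        obtain ⟨i, hi⟩ := hj
        refine ⟨i, ?_⟩
        have hinjiter : Injective (φ^[j]) := hinj.iterate j
        apply hinjiter
        rw [← iterate_add_apply, add_comm, iterate_add_apply, hi, hiterinv]
      have hanA' : ¬ isA a⁻¹ := fun h => hanA (inv_inv a ▸ hA_inv _ h)
      have hnotA' : ∀ j, ¬ isA (φ^[j] a⁻¹) := by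
        intro j hj
        rw [hiterinv] at hj
        exact hnotA j (inv_inv (φ^[j] a) ▸ hA_inv _ hj)
      set O₁ := (Finset.range (period a)).image fun i => φ^[i] a with hO₁
      set O₂ := (Finset.range (period a)).image fun i => φ^[i] a⁻¹ with hO₂
      have hdisj : Disjoint O₁ O₂ := by
        rw [Finset.disjoint_left]
        intro b hb1 hb2
        obtain ⟨i, hi, rfl⟩ := mem_image.mp hb1
        obtain ⟨j, hj, hji⟩ := mem_image.mp hb2
        apply hanA
        refine ⟨period a - j + i, ?_⟩
        have hj' := Finset.mem_range.mp hj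
        rw [iterate_add_apply, ← hji, ← iterate_add_apply,
          show period a - j + j = period a⁻¹ by rw [hper_inv]; omega, iterate_minimalPeriod]
      have hc2 : O₂.card = period a := by rw [hO₂, ← hper_inv a, orbit_card]
      calc 2 * period a = (O₁ ∪ O₂).card := by
            rw [card_union_of_disjoint hdisj, hc2, hO₁, orbit_card]; ring
        _ ≤ _ := by
            refine card_le_card fun b hb => ?_
            rcases mem_union.mp hb with hb | hb <;> obtain ⟨i, -, rfl⟩ := mem_image.mp hb
            · exact mem_filter.mpr ⟨mem_filter.mpr ⟨hDiter i a haD, hnotA i⟩, hper_iter i a⟩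
            · exact mem_filter.mpr ⟨mem_filter.mpr ⟨hDiter i _ (hDinv a haD), hnotA' i⟩,
                (hper_iter i _).trans (hper_inv a)⟩

/-- The numerical heart: all roots satisfy `a ^ N = c` with multiplicity covered by the `p`-part. -/
theorem exists_bound {K : Type*} [Field K] [Finite K] [DecidableEq K] {q p : ℕ} (hp : p.Prime)
    [CharP K p] (hpq : p ≤ q) (hqodd : p ≠ 2 → Odd q)
    (hinj : Injective fun x : K => x ^ q)
    (r : ℕ) (hr : 0 < r) (hper : ∀ a : K, a ^ q ^ r = a)
    (R : Multiset K) (hR0 : ∀ a ∈ R, a ≠ 0)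
    (hφ : ∀ a, R.count (a ^ q) = R.count a) (hinv : ∀ a, R.count a⁻¹ = R.count a)
    (m : ℕ) (hdim : (Multiset.card R = 2 * m ∧ 2 ≤ m) ∨
      (Multiset.card R = 2 * m + 1 ∧ 3 ≤ m ∧ p ≠ 2)) :
    ∃ (L k : ℕ) (ε : ℤ), 0 < L ∧ (q - 1) * (L * p ^ k) ≤ q ^ (m + 1) ∧
      (ε = 1 ∨ ε = -1) ∧ (∀ a ∈ R, a ^ L = (ε : K)) ∧ ∀ a, R.count a ≤ p ^ k := by
  classical
  have hp2 : 2 ≤ p := hp.two_le
  have hq2 : 2 ≤ q := hp2.trans hpq
  obtain ⟨A, B, hA, hB, hroots, hcount⟩ := exists_exponents hq2 hinj r hr hper R hR0 hφ hinv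
  set D := R.toFinset.filter (fun a => a ≠ 1 ∧ a ≠ -1) with hD
  set sD := ∑ a ∈ D, R.count a with hsD
  have hchar2 : p = 2 → (-1 : K) = 1 := by
    intro h; subst h; exact CharTwo.neg_eq 1
  have hne1 : p ≠ 2 → (-1 : K) ≠ 1 := by
    intro h
    exact Ring.neg_one_ne_one_of_char_ne_two (by rw [ringChar.eq K p]; exact h)
  -- the multiplicities add up
  have hcard : Multiset.card R = ∑ a ∈ R.toFinset, R.count a := (Multiset.toFinset_sum_count_eq R).symm
  have hpm : ∀ e : K, (e = 1 ∨ e = -1) → sD + R.count e ≤ Multiset.card R := by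
    intro e he
    rw [hcard, ← Finset.sum_filter_add_sum_filter_not R.toFinset (fun a => a ≠ 1 ∧ a ≠ -1)]
    refine Nat.add_le_add_left ?_ _
    rcases Nat.eq_zero_or_pos (R.count e) with h0 | hpos
    · omega
    · refine Finset.single_le_sum (f := fun a => R.count a) (fun _ _ => Nat.zero_le _) ?_
      refine Finset.mem_filter.mpr ⟨Multiset.mem_toFinset.mpr (Multiset.count_pos.mp hpos), ?_⟩
      rcases he with rfl | rfl <;> simp
  have hn : Multiset.card R ≤ 2 * m + 1 := by omega
  by_cases hDne : D.Nonempty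
  · -- some root is different from `1` and `-1`
    obtain ⟨a₀, ha₀, hmax⟩ := D.exists_max_image (fun a => R.count a) hDne
    set μ := R.count a₀ with hμ
    have ha₀' := Finset.mem_filter.mp ha₀
    have hμ1 : 1 ≤ μ := Multiset.count_pos.mpr (Multiset.mem_toFinset.mp ha₀'.1)
    have hpair : D.card + 2 * (μ - 1) ≤ sD := by
      have h1 : sD = D.card + ∑ a ∈ D, (R.count a - 1) := by
        rw [Finset.card_eq_sum_ones, ← Finset.sum_add_distrib]
        refine Finset.sum_congr rfl fun a ha => ?_
        have := Multiset.count_pos.mpr (Multiset.mem_toFinset.mp (Finset.mem_filter.mp ha).1)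
        omega
      rw [h1]
      refine Nat.add_le_add_left ?_ _
      have hne : a₀ ≠ a₀⁻¹ := by
        intro h
        have : a₀ * a₀ = 1 := by
          nth_rewrite 2 [h]
          exact mul_inv_cancel₀ (hR0 a₀ (Multiset.mem_toFinset.mp ha₀'.1))
        rcases mul_self_eq_one_iff.mp this with h' | h'
        · exact ha₀'.2.1 h'
        · exact ha₀'.2.2 h'
      have hmem : a₀⁻¹ ∈ D := by
        refine Finset.mem_filter.mpr ⟨Multiset.mem_toFinset.mpr (Multiset.count_pos.mp ?_),
          fun h => ha₀'.2.1 (inv_eq_one.mp h), fun h => ha₀'.2.2 ?_⟩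
        · rw [hinv]; exact hμ1
        · rw [← inv_inv a₀, h, inv_neg, inv_one]
      calc 2 * (μ - 1) = ∑ a ∈ ({a₀, a₀⁻¹} : Finset K), (R.count a - 1) := by
            rw [Finset.sum_pair hne, hinv]; ring
        _ ≤ _ := Finset.sum_le_sum_of_subset (by
            intro x hx
            rcases Finset.mem_insert.mp hx with rfl | hx
            · exact ha₀
            · rw [Finset.mem_singleton.mp hx]; exact hmem)
    -- in characteristic two the non-trivial roots come in pairs
    have heven : p = 2 → 2 ∣ sD := by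
      intro h2
      have h0 : ((sD : ℕ) : ZMod 2) = 0 := by
        rw [hsD, Nat.cast_sum]
        refine Finset.sum_involution (fun a _ => a⁻¹) (fun a _ => ?_) (fun a ha _ h => ?_)
          (fun a ha => ?_) (fun a _ => inv_inv a)
        · rw [hinv]; exact CharTwo.add_self_eq_zero _
        · have ha' := Finset.mem_filter.mp ha
          have : a * a = 1 := by
            nth_rewrite 2 [← h]
            exact mul_inv_cancel₀ (hR0 a (Multiset.mem_toFinset.mp ha'.1))
          rcases mul_self_eq_one_iff.mp this with h' | h'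
          · exact ha'.2.1 h'
          · exact ha'.2.2 h'
        · have ha' := Finset.mem_filter.mp ha
          refine Finset.mem_filter.mpr ⟨Multiset.mem_toFinset.mpr (Multiset.count_pos.mp ?_),
            fun h => ha'.2.1 (inv_eq_one.mp h), fun h => ha'.2.2 ?_⟩
          · rw [hinv]; exact Multiset.count_pos.mpr (Multiset.mem_toFinset.mp ha'.1)
          · rw [← inv_inv a, h, inv_neg, inv_one]
      exact (CharP.cast_eq_zero_iff (ZMod 2) 2 _).mp h0
    set e := Multiset.card R - sD with he
    set u := e / 2 with hu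
    set s := ∑ d ∈ A, d + ∑ d ∈ B, d with hs
    have hcount' : 2 * s ≤ D.card := hcount
    have hsD_le : sD ≤ Multiset.card R := by
      have := hpm 1 (Or.inl rfl); omega
    have hbudget : s + (μ - 1) + u ≤ m := by omega
    set k := μ - 1 + u with hk
    have hμk : μ ≤ p ^ k := by
      have h1 := (le_pow_aux hp2 (μ - 1)).2
      have h2 : p ^ (μ - 1) ≤ p ^ k := Nat.pow_le_pow_right hp.pos (by omega)
      omega
    have hek : e ≤ p ^ k := by
      refine le_trans ?_ (Nat.pow_le_pow_right hp.pos (show u ≤ k by omega))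
      rcases eq_or_ne p 2 with h2 | h2
      · have h3 := heven h2
        have h4 : Multiset.card R = 2 * m := by
          rcases hdim with h | h
          · exact h.1
          · exact absurd h2 h.2.2
        have h5 := (le_pow_aux hp2 u).1
        omega
      · have h5 := two_mul_add_one_le_pow (p := p) (by omega) u
        omega
    set LA := A.lcm (fun d => q ^ d + 1) with hLA
    set LB := B.lcm (fun d => q ^ d - 1) with hLB
    have hqd : ∀ d ∈ B, 0 < q ^ d - 1 := by
      intro d hd
      have := Nat.one_lt_pow (Nat.one_le_iff_ne_zero.mp (hB d hd)) (show 1 < q by omega)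
      omega
    have hLBle : LB ≤ q ^ ∑ d ∈ B, d := by
      refine le_trans (Nat.le_of_dvd (Finset.prod_pos hqd)
        (Finset.lcm_dvd fun d hd => Finset.dvd_prod_of_mem (fun d => q ^ d - 1) hd)) ?_
      rw [← Finset.prod_pow_eq_pow_sum]
      exact Finset.prod_le_prod' fun d _ => Nat.sub_le _ _
    refine ⟨LA * LB, k, 1, ?_, ?_, Or.inl rfl, ?_, ?_⟩
    · refine Nat.mul_pos (Nat.pos_of_ne_zero ?_) (Nat.pos_of_ne_zero ?_)
      · simp [hLA, Finset.lcm_eq_zero_iff]
      · rw [hLB, Ne, Finset.lcm_eq_zero_iff]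
        rintro ⟨d, hd, h0⟩
        exact (hqd d hd).ne' h0
    · have h1 := lcm_bound A hA hq2
      calc (q - 1) * (LA * LB * p ^ k) = (q - 1) * LA * (LB * p ^ k) := by ring
        _ ≤ q ^ (∑ d ∈ A, d + 1) * (q ^ (∑ d ∈ B, d) * q ^ k) :=
            Nat.mul_le_mul h1 (Nat.mul_le_mul hLBle (Nat.pow_le_pow_left hpq k))
        _ ≤ q ^ (m + 1) := by
            rw [← pow_add, ← pow_add]
            exact Nat.pow_le_pow_right (by omega) (by omega)
    · intro a ha
      rw [Int.cast_one]
      by_cases h1 : a = 1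
      · rw [h1, one_pow]
      by_cases h2 : a = -1
      · have hpne : p ≠ 2 := fun h => h1 (h2.trans (hchar2 h))
        have heven' : Even (LA * LB) := by
          obtain ⟨b, hb⟩ := hDne
          have hb' := Finset.mem_filter.mp hb
          have hqo := hqodd hpne
          rcases hroots b (Multiset.mem_toFinset.mp hb'.1) hb'.2.1 hb'.2.2 with
            ⟨d, hd, -⟩ | ⟨d, hd, -⟩
          · have : Even (q ^ d + 1) := (hqo.pow).add_one
            exact (this.trans_dvd (Finset.dvd_lcm (f := fun d => q ^ d + 1) hd)).mul_right _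
          · have : Even (q ^ d - 1) := Nat.Odd.sub_odd hqo.pow odd_one
            exact (this.trans_dvd (Finset.dvd_lcm (f := fun d => q ^ d - 1) hd)).mul_left _
        rw [h2]; exact heven'.neg_one_pow
      rcases hroots a ha h1 h2 with ⟨d, hd, hp'⟩ | ⟨d, hd, hp'⟩
      · obtain ⟨c, hc⟩ := (Finset.dvd_lcm (f := fun d => q ^ d + 1) hd).trans (dvd_mul_right LA LB)
        rw [hc, pow_mul, hp', one_pow]
      · obtain ⟨c, hc⟩ := (Finset.dvd_lcm (f := fun d => q ^ d - 1) hd).trans (dvd_mul_left LB LA)
        rw [hc, pow_mul, hp', one_pow]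
    · intro a
      by_cases ha : a ∈ D
      · exact (hmax a ha).trans hμk
      rcases Nat.eq_zero_or_pos (R.count a) with h0 | hposc
      · omega
      have : a = 1 ∨ a = -1 := by
        by_contra hcon
        push Not at hcon
        exact ha (Finset.mem_filter.mpr
          ⟨Multiset.mem_toFinset.mpr (Multiset.count_pos.mp hposc), hcon⟩)
      have := hpm a this
      omega
  · -- all roots are `1` or `-1`
    have hall : ∀ a ∈ R, a = 1 ∨ a = -1 := by
      intro a ha
      by_contra hcon
      push Not at hcon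
      exact hDne ⟨a, Finset.mem_filter.mpr ⟨Multiset.mem_toFinset.mpr ha, hcon⟩⟩
    have hm2 : 2 ≤ m := by omega
    have hmpos : 0 < q ^ m := pow_pos (by omega) m
    have hsimple : (q - 1) * p ^ m ≤ q ^ (m + 1) := by
      rw [pow_succ']
      exact Nat.mul_le_mul (Nat.sub_le _ _) (Nat.pow_le_pow_left hpq m)
    have hnm : Multiset.card R ≤ p ^ m := by
      rcases hdim with h | h
      · rw [h.1]; exact (le_pow_aux hp2 m).1
      · rw [h.1]; exact two_mul_add_one_le_pow (by omega) m
    by_cases hminus : ∀ a ∈ R, a = -1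
    · refine ⟨1, m, -1, one_pos, by simpa using hsimple, Or.inr rfl, ?_,
        fun a => (Multiset.count_le_card a R).trans hnm⟩
      intro a ha
      rw [pow_one, hminus a ha]; simp
    by_cases hplus : ∀ a ∈ R, a = 1
    · refine ⟨1, m, 1, one_pos, by simpa using hsimple, Or.inl rfl, ?_,
        fun a => (Multiset.count_le_card a R).trans hnm⟩
      intro a ha
      rw [pow_one, hplus a ha]; simp
    push Not at hminus hplus
    obtain ⟨a, haR, ha⟩ := hminus
    obtain ⟨b, hbR, hb⟩ := hplus
    have ha1 : a = 1 := (hall a haR).resolve_right ha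
    have hb1 : b = -1 := (hall b hbR).resolve_left hb
    have hpne : p ≠ 2 := fun h => hb (hb1.trans (hchar2 h))
    have hp3 : 3 ≤ p := by omega
    refine ⟨2, m - 1, 1, two_pos, ?_, Or.inl rfl, ?_, ?_⟩
    · obtain ⟨j, rfl⟩ : ∃ j, m = j + 1 := ⟨m - 1, by omega⟩
      rw [Nat.add_sub_cancel, pow_succ', pow_succ']
      have hq3 : 2 ≤ q := hq2
      calc (q - 1) * (2 * p ^ j) ≤ q * (q * q ^ j) :=
            Nat.mul_le_mul (Nat.sub_le _ _) (Nat.mul_le_mul hq3 (Nat.pow_le_pow_left hpq j))
        _ = q * (q * q ^ j) := rfl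
    · intro c hc
      rw [Int.cast_one]
      rcases hall c hc with rfl | rfl
      · exact one_pow 2
      · exact neg_one_sq
    · intro c
      have hlt : R.count c < Multiset.card R := by
        refine lt_of_le_of_ne (Multiset.count_le_card c R) fun h => ?_
        have hh := (Multiset.count_eq_card.mp h)
        exact hne1 hpne (by rw [← hb1, ← ha1, ← hh a haR, hh b hbR])
      have hj : Multiset.card R ≤ p ^ (m - 1) + 1 := by
        rcases hdim with h | h
        · obtain ⟨j, rfl⟩ : ∃ j, m = j + 1 := ⟨m - 1, by omega⟩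
          have := two_mul_add_one_le_pow hp3 j
          rw [Nat.add_sub_cancel]; omega
        · obtain ⟨j, rfl⟩ : ∃ j, m = j + 2 := ⟨m - 2, by omega⟩
          have := two_mul_add_one_le_pow hp3 j
          rw [show j + 2 - 1 = j + 1 by omega, pow_succ]
          have hmul : (2 * j + 1) * 3 ≤ p ^ j * p := Nat.mul_le_mul this hp3
          omega
      omega

variable {ι : Type*} [Fintype ι] [DecidableEq ι]

/-- Main theorem on matrices. -/
theorem exists_scalar_pow (M : Matrix ι ι F) (hM : IsUnit M)
    (hsym : M⁻¹.charpoly = M.charpoly) (m : ℕ)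
    (hdim : (Fintype.card ι = 2 * m ∧ 2 ≤ m) ∨
      (Fintype.card ι = 2 * m + 1 ∧ 3 ≤ m ∧ Odd (Fintype.card F))) :
    ∃ (N : ℕ) (c : F), 0 < N ∧ (Fintype.card F - 1) * N ≤ Fintype.card F ^ (m + 1) ∧
      M ^ N = c • (1 : Matrix ι ι F) := by
  classical
  set q := Fintype.card F with hq
  obtain ⟨p, hpF⟩ := CharP.exists F
  have hp : p.Prime := CharP.char_is_prime F p
  obtain ⟨f, -, hqp⟩ := FiniteField.card F p
  have : Fact p.Prime := ⟨hp⟩
  set cF := M.charpoly with hcF
  set K := cF.SplittingField
  have : Finite K := Module.finite_of_finite F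
  have : CharP K p := charP_of_injective_algebraMap (algebraMap F K).injective p
  have : Fintype K := Fintype.ofFinite K
  set cK := cF.map (algebraMap F K) with hcK
  have hmonic : cK.Monic := (Matrix.charpoly_monic M).map _
  have hsplit : cK.Splits := SplittingField.splits cF
  have hprod : cK = (cK.roots.map fun a => X - Polynomial.C a).prod :=
    hsplit.eq_prod_roots_of_monic hmonic
  have hdeg : Multiset.card cK.roots = Fintype.card ι := by
    rw [← hsplit.natDegree_eq_card_roots, hcK, natDegree_map, hcF,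
      Matrix.charpoly_natDegree_eq_dim]
  -- roots are nonzero
  have hc0 : cF.coeff 0 ≠ 0 := by
    intro h0
    have hdet := (Matrix.isUnit_iff_isUnit_det M).mp hM
    rw [Matrix.det_eq_sign_charpoly_coeff, ← hcF, h0, mul_zero] at hdet
    exact not_isUnit_zero hdet
  have hR0 : ∀ a ∈ cK.roots, a ≠ 0 := by
    intro a ha h0
    subst h0
    rw [mem_roots', IsRoot, ← coeff_zero_eq_eval_zero, hcK, coeff_map] at ha
    exact hc0 ((_root_.map_eq_zero _).mp ha.2)
  -- invariance under Frobenius
  set φ := FiniteField.frobeniusAlgHom F K with hφdef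
  have hφapp : ∀ x : K, φ x = x ^ q := fun x => rfl
  have hinj : Injective fun x : K => x ^ q := by
    intro x y h
    exact φ.toRingHom.injective h
  have hφroots : cK.roots.map (fun x => x ^ q) = cK.roots := by
    have h1 : cK.map φ.toRingHom = cK := by
      rw [hcK, Polynomial.map_map]
      congr 1
      exact φ.comp_algebraMap
    have h2 := hsplit.roots_map φ.toRingHom
    rw [h1] at h2
    exact h2.symm
  have hφcount : ∀ a, cK.roots.count (a ^ q) = cK.roots.count a := by
    intro a
    conv_lhs => rw [← hφroots]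
    exact Multiset.count_map_eq_count' _ _ hinj _
  -- invariance under inversion
  have hinvroots : cK.roots.map (fun x => x⁻¹) = cK.roots := by
    have h1 : ∃ c₁ : F, c₁ ≠ 0 ∧ cF = Polynomial.C c₁ * cF.reverse := by
      refine ⟨(-1) ^ Fintype.card ι * Ring.inverse M.det, ?_, ?_⟩
      · refine mul_ne_zero (pow_ne_zero _ (by norm_num)) ?_
        rw [Ring.inverse_eq_inv']
        exact inv_ne_zero ((Matrix.isUnit_iff_isUnit_det M).mp hM).ne_zero
      · conv_lhs => rw [← hsym, Matrix.charpoly_inv M hM]
        simp only [hcF, Matrix.reverse_charpoly, map_mul, map_pow, map_neg, map_one]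
    obtain ⟨c₁, hc₁, heq⟩ := h1
    have hcd : cF.reverse.map (algebraMap F K) = cK.reverse := by
      rw [hcK, reverse, reverse, ← reflect_map, natDegree_map]
    have h2 : cK = Polynomial.C (algebraMap F K c₁) * cK.reverse := by
      have h := congrArg (Polynomial.map (algebraMap F K)) heq
      rwa [Polynomial.map_mul, map_C, hcd] at h
    have hne : algebraMap F K c₁ ≠ 0 := (_root_.map_ne_zero _).mpr hc₁
    have h3 : cK.roots = cK.reverse.roots := by
      conv_lhs => rw [h2]
      exact roots_C_mul _ hne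
    -- reverse of a product of linear factors
    have h4 : ∀ S : Multiset K, (∀ a ∈ S, a ≠ 0) →
        ∃ c₂ : K, c₂ ≠ 0 ∧ ((S.map fun a => X - Polynomial.C a).prod).reverse =
          Polynomial.C c₂ * ((S.map (fun x => x⁻¹)).map fun a => X - Polynomial.C a).prod := by
      intro S
      induction S using Multiset.induction_on with
      | empty =>
        intro _
        exact ⟨1, one_ne_zero, by
          simp only [Multiset.map_zero, Multiset.prod_zero, map_one, mul_one]
          exact (congrArg reverse C_1.symm).trans ((reverse_C 1).trans C_1)⟩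
      | cons a S ih =>
        intro hS
        obtain ⟨c₂, hc₂, hc₂'⟩ := ih fun b hb => hS b (Multiset.mem_cons_of_mem hb)
        have ha := hS a (Multiset.mem_cons_self a S)
        refine ⟨-a * c₂, mul_ne_zero (neg_ne_zero.mpr ha) hc₂, ?_⟩
        rw [Multiset.map_cons, Multiset.prod_cons, reverse_mul_of_domain, hc₂',
          Multiset.map_cons, Multiset.map_cons, Multiset.prod_cons]
        have hlin : (X - Polynomial.C a).reverse = Polynomial.C (-a) * (X - Polynomial.C a⁻¹) := by
          rw [reverse, natDegree_X_sub_C, reflect_sub, reflect_C, ← pow_one X, reflect_monomial]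
          rw [mul_sub, ← map_mul, neg_mul, mul_inv_cancel₀ ha]
          simp only [revAt_le (le_refl 1), map_neg, map_one, Nat.sub_self, pow_zero, pow_one]
          ring
        rw [hlin, map_mul]
        ring
    obtain ⟨c₂, hc₂, hc₂'⟩ := h4 cK.roots hR0
    rw [← hprod] at hc₂'
    conv_rhs => rw [h3, hc₂', roots_C_mul _ hc₂, roots_multiset_prod_X_sub_C]
  have hinvcount : ∀ a, cK.roots.count a⁻¹ = cK.roots.count a := by
    intro a
    conv_lhs => rw [← hinvroots]
    exact Multiset.count_map_eq_count' _ _ inv_injective _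
  -- finite splitting field: every element is periodic
  have hKcard : Fintype.card K = q ^ Module.finrank F K := Module.card_eq_pow_finrank
  have hper : ∀ a : K, a ^ q ^ Module.finrank F K = a := fun a => by
    rw [← hKcard]; exact FiniteField.pow_card a
  have hpq : p ≤ q := by
    rw [hq, hqp]; exact Nat.le_self_pow f.ne_zero p
  have hqodd : p ≠ 2 → Odd q := by
    intro h; rw [hq, hqp]; exact (hp.odd_of_ne_two h).pow
  have hdim' : (Multiset.card cK.roots = 2 * m ∧ 2 ≤ m) ∨
      (Multiset.card cK.roots = 2 * m + 1 ∧ 3 ≤ m ∧ p ≠ 2) := by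
    rw [hdeg]
    rcases hdim with h | ⟨h1, h2, h3⟩
    · exact Or.inl h
    · refine Or.inr ⟨h1, h2, fun h => ?_⟩
      rw [hq, hqp, h] at h3
      exact (Nat.not_even_iff_odd.mpr h3) (Nat.even_pow.mpr ⟨even_two, f.ne_zero⟩)
  obtain ⟨L, k, ε, hL, hbound, hε, hpow, hmult⟩ :=
    exists_bound hp hpq hqodd hinj (Module.finrank F K) Module.finrank_pos hper cK.roots hR0
      hφcount hinvcount m hdim'
  -- the divisibility
  set c : F := (ε : F) ^ p ^ k with hc
  refine ⟨L * p ^ k, c, Nat.mul_pos hL (pow_pos hp.pos k), hbound, ?_⟩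
  have hdvdK : cK ∣ (X ^ L - Polynomial.C (ε : K)) ^ p ^ k := by
    refine splits_dvd hmonic hprod (Multiset.le_iff_count.mpr fun a => ?_)
    rw [roots_pow, Multiset.count_nsmul]
    rcases Nat.eq_zero_or_pos (cK.roots.count a) with h0 | hpos
    · rw [h0]; exact Nat.zero_le _
    · have ha := Multiset.count_pos.mp hpos
      have hne : (X ^ L - Polynomial.C (ε : K)) ≠ 0 := X_pow_sub_C_ne_zero hL _
      have hmem : a ∈ (X ^ L - Polynomial.C (ε : K)).roots := by
        rw [mem_roots hne]; simp [hpow a ha]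
      have := Multiset.count_pos.mpr hmem
      calc cK.roots.count a ≤ p ^ k * 1 := by rw [mul_one]; exact hmult a
        _ ≤ _ := Nat.mul_le_mul_left _ this
  have hdvdF : cF ∣ X ^ (L * p ^ k) - Polynomial.C c := by
    rw [← Polynomial.map_dvd_map (algebraMap F K) (algebraMap F K).injective
      (Matrix.charpoly_monic M)]
    rw [sub_pow_char_pow] at hdvdK
    rw [Polynomial.map_sub, Polynomial.map_pow, map_X, map_C, hc, map_pow (algebraMap F K),
      map_intCast (algebraMap F K), map_pow Polynomial.C, pow_mul]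
    exact hdvdK
  obtain ⟨P, hP⟩ := hdvdF
  have := congrArg (Polynomial.aeval M) hP
  rw [map_mul, Matrix.aeval_self_charpoly, zero_mul, map_sub, map_pow, aeval_X, aeval_C,
    sub_eq_zero] at this
  rw [this, Algebra.algebraMap_eq_smul_one]

/-- Version for isometries of a non-degenerate bilinear form. -/
theorem exists_scalar_pow_of_form (M J : Matrix ι ι F) (hJ : IsUnit J)
    (hMJ : M.transpose * J * M = J) (m : ℕ)
    (hdim : (Fintype.card ι = 2 * m ∧ 2 ≤ m) ∨
      (Fintype.card ι = 2 * m + 1 ∧ 3 ≤ m ∧ Odd (Fintype.card F))) :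
    ∃ (N : ℕ) (c : F), 0 < N ∧ (Fintype.card F - 1) * N ≤ Fintype.card F ^ (m + 1) ∧
      M ^ N = c • (1 : Matrix ι ι F) := by
  have hJd := (Matrix.isUnit_iff_isUnit_det J).mp hJ
  have h1 : (J⁻¹ * M.transpose * J) * M = 1 := by
    rw [Matrix.mul_assoc, Matrix.mul_assoc, ← Matrix.mul_assoc M.transpose, hMJ,
      Matrix.nonsing_inv_mul _ hJd]
  have hM : IsUnit M := IsUnit.of_mul_eq_one_right _ h1
  refine exists_scalar_pow M hM ?_ m hdim
  rw [Matrix.inv_eq_left_inv h1, ← Matrix.charpoly_transpose M]
  obtain ⟨U, rfl⟩ := hJ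
  rw [Matrix.charpoly_units_conj' U]

end Cfsg.Agent.Lib.ClassicalOrder
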